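import Groth.Agent.SpreadOutFP.Iso
import Mathlib.AlgebraicGeometry.Birational.Birational
import Mathlib.AlgebraicGeometry.FunctionField

/-!
`S`-birationality of irreducible schemes through the local rings at the generic points.
-/

universe u

open AlgebraicGeometry CategoryTheory TopologicalSpace Opposite

set_option backward.isDefEq.respectTransparency.types false

namespace Groth.Agent.SpreadOutFP

variable {X Y S : Scheme.{u}}

theorem SpecMap_eqToHom_fromSpecStalk {a b : X} (h : a = b) :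
    Spec.map (eqToHom (congrArg X.presheaf.stalk h)) ≫ X.fromSpecStalk a = X.fromSpecStalk b := by
  subst h; simp

/-- A morphism from a local scheme sending the closed point to `x` factors through `Spec 𝒪_{X,x}`. -/
theorem exists_SpecMap_fromSpecStalk {R : CommRingCat.{u}} [IsLocalRing R] (ε : Spec R ⟶ X) {x : X}
    (h : ε (IsLocalRing.closedPoint R) = x) :
    ∃ β : X.presheaf.stalk x ⟶ R, Spec.map β ≫ X.fromSpecStalk x = ε := by
  subst h
  exact ⟨Scheme.stalkClosedPointTo ε, Scheme.Spec_stalkClosedPointTo_fromSpecStalk ε⟩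

theorem generic_of_iso [IrreducibleSpace X] [IrreducibleSpace Y] {U : X.Opens} {V : Y.Opens}
    (e : V.toScheme ≅ U.toScheme) (hU : (U : Set X).Nonempty) (hV : genericPoint Y ∈ V) :
    (e.hom ≫ U.ι) ⟨genericPoint Y, hV⟩ = genericPoint X := by
  obtain ⟨u, hu⟩ := hU
  have hx : genericPoint X ∈ U := (genericPoint_specializes u).mem_open U.2 hu
  refine (Specializes.antisymm ?_ (genericPoint_specializes _)).eq
  have h1 : (⟨genericPoint Y, hV⟩ : V.toScheme) ⤳ e.inv ⟨genericPoint X, hx⟩ :=
    (subtype_specializes_iff ..).mpr (genericPoint_specializes _)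
  have h2 := h1.map (e.hom ≫ U.ι).continuous
  rwa [← Scheme.Hom.comp_apply, e.inv_hom_id_assoc] at h2

/-- The stalk isomorphism of an `S`-birational equivalence. -/
theorem stalk_iso_of_birationalOver [IrreducibleSpace X] [IrreducibleSpace Y] (sX : X ⟶ S) (sY : Y ⟶ S)
    (h : Scheme.BirationalOver sX sY) :
    ∃ (hs : sX (genericPoint X) = sY (genericPoint Y))
      (e : X.presheaf.stalk (genericPoint X) ≅ Y.presheaf.stalk (genericPoint Y)),
      sX.stalkMap (genericPoint X) ≫ e.hom =
        eqToHom (congrArg S.presheaf.stalk hs) ≫ sY.stalkMap (genericPoint Y) := by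
  obtain ⟨p, hp⟩ := h
  set x := genericPoint X
  set y := genericPoint Y
  have hxU : x ∈ p.source :=
    (genericPoint_specializes _).mem_open p.source.2 p.dense_source.nonempty.choose_spec
  have hyV : y ∈ p.target :=
    (genericPoint_specializes _).mem_open p.target.2 p.dense_target.nonempty.choose_spec
  let εy := p.target.fromSpecStalkOfMem y hyV ≫ p.iso.inv ≫ p.source.ι
  let εx := p.source.fromSpecStalkOfMem x hxU ≫ p.iso.hom ≫ p.target.ι
  have hcy : p.target.fromSpecStalkOfMem y hyV (IsLocalRing.closedPoint _) = ⟨y, hyV⟩ := Subtype.ext (by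
    show (p.target.fromSpecStalkOfMem y hyV ≫ p.target.ι) (IsLocalRing.closedPoint _) = y
    rw [Scheme.Opens.fromSpecStalkOfMem_ι, Scheme.fromSpecStalk_closedPoint])
  have hcx : p.source.fromSpecStalkOfMem x hxU (IsLocalRing.closedPoint _) = ⟨x, hxU⟩ := Subtype.ext (by
    show (p.source.fromSpecStalkOfMem x hxU ≫ p.source.ι) (IsLocalRing.closedPoint _) = x
    rw [Scheme.Opens.fromSpecStalkOfMem_ι, Scheme.fromSpecStalk_closedPoint])
  have hey : εy (IsLocalRing.closedPoint _) = x := by
    show (p.iso.inv ≫ p.source.ι) (p.target.fromSpecStalkOfMem y hyV (IsLocalRing.closedPoint _)) = x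
    rw [hcy]
    exact generic_of_iso p.iso.symm p.dense_source.nonempty hyV
  have hex : εx (IsLocalRing.closedPoint _) = y := by
    show (p.iso.hom ≫ p.target.ι) (p.source.fromSpecStalkOfMem x hxU (IsLocalRing.closedPoint _)) = y
    rw [hcx]
    exact generic_of_iso p.iso p.dense_target.nonempty hxU
  obtain ⟨β, hβ⟩ := exists_SpecMap_fromSpecStalk εy hey
  obtain ⟨α, hα⟩ := exists_SpecMap_fromSpecStalk εx hex
  have hsY : εy ≫ sX = Y.fromSpecStalk y ≫ sY := by
    have : p.iso.inv ≫ p.source.ι ≫ sX = p.target.ι ≫ sY := by rw [Iso.inv_comp_eq, hp]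
    simp only [εy, Category.assoc, this]
    simp
  have hs : sX x = sY y := by
    rw [← hey, ← Scheme.Hom.comp_apply, hsY, Scheme.Hom.comp_apply, Scheme.fromSpecStalk_closedPoint]
  -- the two lifts of the stalks
  have hvv : Spec.map β ≫ p.source.fromSpecStalkOfMem x hxU =
      p.target.fromSpecStalkOfMem y hyV ≫ p.iso.inv := by
    rw [← cancel_mono p.source.ι, Category.assoc, Scheme.Opens.fromSpecStalkOfMem_ι, hβ, Category.assoc]
  have huu : Spec.map α ≫ p.target.fromSpecStalkOfMem y hyV =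
      p.source.fromSpecStalkOfMem x hxU ≫ p.iso.hom := by
    rw [← cancel_mono p.target.ι, Category.assoc, Scheme.Opens.fromSpecStalkOfMem_ι, hα, Category.assoc]
  refine ⟨hs, ⟨β, α, ?_, ?_⟩, ?_⟩
  · apply Spec.map_injective
    rw [← cancel_mono (X.fromSpecStalk x), Spec.map_comp, Category.assoc, hβ, Spec.map_id, Category.id_comp]
    show Spec.map α ≫ p.target.fromSpecStalkOfMem y hyV ≫ p.iso.inv ≫ p.source.ι = _
    rw [reassoc_of% huu, p.iso.hom_inv_id_assoc, Scheme.Opens.fromSpecStalkOfMem_ι]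
  · apply Spec.map_injective
    rw [← cancel_mono (Y.fromSpecStalk y), Spec.map_comp, Category.assoc, hα, Spec.map_id, Category.id_comp]
    show Spec.map β ≫ p.source.fromSpecStalkOfMem x hxU ≫ p.iso.hom ≫ p.target.ι = _
    rw [reassoc_of% hvv, p.iso.inv_hom_id_assoc, Scheme.Opens.fromSpecStalkOfMem_ι]
  · show sX.stalkMap x ≫ β = _
    apply Spec.map_injective
    rw [← cancel_mono (S.fromSpecStalk _), Spec.map_comp, Spec.map_comp, Category.assoc, Category.assoc,
      Scheme.SpecMap_stalkMap_fromSpecStalk, reassoc_of% hβ, hsY, SpecMap_eqToHom_fromSpecStalk hs,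
      Scheme.SpecMap_stalkMap_fromSpecStalk]

/-- An isomorphism of the generic local rings over `S` gives an `S`-birational equivalence,
given spreading out of morphisms at the generic points. -/
theorem birationalOver_of_stalk_iso [IrreducibleSpace X] [IrreducibleSpace Y] (sX : X ⟶ S) (sY : Y ⟶ S)
    [LocallyOfFiniteType sX] [LocallyOfFiniteType sY]
    (hX : ∀ φ : Spec (X.presheaf.stalk (genericPoint X)) ⟶ Y,
      φ ≫ sY = X.fromSpecStalk (genericPoint X) ≫ sX →
      ∃ (U : X.Opens) (hxU : genericPoint X ∈ U) (f : U.toScheme ⟶ Y),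
        φ = U.fromSpecStalkOfMem _ hxU ≫ f ∧ f ≫ sY = U.ι ≫ sX)
    (hY : ∀ φ : Spec (Y.presheaf.stalk (genericPoint Y)) ⟶ X,
      φ ≫ sX = Y.fromSpecStalk (genericPoint Y) ≫ sY →
      ∃ (U : Y.Opens) (hxU : genericPoint Y ∈ U) (f : U.toScheme ⟶ X),
        φ = U.fromSpecStalkOfMem _ hxU ≫ f ∧ f ≫ sX = U.ι ≫ sY)
    (hs : sX (genericPoint X) = sY (genericPoint Y))
    (e : X.presheaf.stalk (genericPoint X) ≅ Y.presheaf.stalk (genericPoint Y))
    (he : sX.stalkMap (genericPoint X) ≫ e.hom =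
      eqToHom (congrArg S.presheaf.stalk hs) ≫ sY.stalkMap (genericPoint Y)) :
    Scheme.BirationalOver sX sY := by
  have h1 : (Spec.map e.hom ≫ X.fromSpecStalk _) ≫ sX = Y.fromSpecStalk _ ≫ sY := by
    rw [Category.assoc, ← Scheme.SpecMap_stalkMap_fromSpecStalk, ← Spec.map_comp_assoc, he,
      Spec.map_comp, Category.assoc, SpecMap_eqToHom_fromSpecStalk hs,
      Scheme.SpecMap_stalkMap_fromSpecStalk]
  have h2 : (Spec.map e.inv ≫ Y.fromSpecStalk _) ≫ sY = X.fromSpecStalk _ ≫ sX := by
    rw [Category.assoc, ← h1, Category.assoc, ← Spec.map_comp_assoc, e.hom_inv_id, Spec.map_id,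
      Category.id_comp]
  obtain ⟨U, hxU, f, hf, hf'⟩ := hX _ h2
  obtain ⟨V, hyV, g, hg, hg'⟩ := hY _ h1
  obtain ⟨U', V', hxU', hyV', hle, -, i, -, hi⟩ :=
    exists_iso_of_spread sX sY e.symm hxU f hf' hf.symm hyV g hg' hg.symm
  exact ⟨⟨U', U'.2.dense ⟨_, hxU'⟩, V', V'.2.dense ⟨_, hyV'⟩, i⟩, hi⟩

end Groth.Agent.SpreadOutFP
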