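import Groth.Agent.SpreadOutFP.Basic
import Mathlib.AlgebraicGeometry.Morphisms.OpenImmersion

/-!
Spreading out of an isomorphism of local rings to an isomorphism of neighbourhoods.
-/

universe u

open AlgebraicGeometry CategoryTheory TopologicalSpace Opposite

set_option backward.isDefEq.respectTransparency.types false

namespace Groth.Agent.SpreadOutFP

variable {X Y S : Scheme.{u}}

theorem spread_out_unique_sub (sY : Y ⟶ S) [LocallyOfFiniteType sY] {W : Scheme.{u}} (j : W ⟶ X)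
    [IsOpenImmersion j] (w : W) {x : X} (hjw : j w = x) (u : Spec (X.presheaf.stalk x) ⟶ W)
    (hu : u ≫ j = X.fromSpecStalk x) (f g : W ⟶ Y) (hfg : f ≫ sY = g ≫ sY)
    (e : u ≫ f = u ≫ g) : ∃ O : W.Opens, w ∈ O ∧ O.ι ≫ f = O.ι ≫ g := by
  subst hjw
  have h1 : Spec.map (j.stalkMap w) ≫ u = W.fromSpecStalk w := by
    rw [← cancel_mono j, Category.assoc, hu, Scheme.SpecMap_stalkMap_fromSpecStalk]
  refine spread_out_unique sY f g hfg ?_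
  rw [← h1, Category.assoc, Category.assoc, e]

/-- If morphisms on neighbourhoods of `x` and `y` induce mutually inverse maps on local rings,
then some neighbourhoods of `x` and `y` are isomorphic. -/
theorem exists_iso_of_spread (sX : X ⟶ S) (sY : Y ⟶ S) [LocallyOfFiniteType sX] [LocallyOfFiniteType sY]
    {x : X} {y : Y} (α : Y.presheaf.stalk y ≅ X.presheaf.stalk x)
    {U : X.Opens} (hx : x ∈ U) (f : U.toScheme ⟶ Y) (hf : f ≫ sY = U.ι ≫ sX)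
    (hfα : U.fromSpecStalkOfMem x hx ≫ f = Spec.map α.hom ≫ Y.fromSpecStalk y)
    {V : Y.Opens} (hy : y ∈ V) (g : V.toScheme ⟶ X) (hg : g ≫ sX = V.ι ≫ sY)
    (hgα : V.fromSpecStalkOfMem y hy ≫ g = Spec.map α.inv ≫ X.fromSpecStalk x) :
    ∃ (U' : X.Opens) (V' : Y.Opens) (_ : x ∈ U') (_ : y ∈ V') (hU : U' ≤ U) (_ : V' ≤ V)
      (e : U'.toScheme ≅ V'.toScheme), e.hom ≫ V'.ι = X.homOfLE hU ≫ f ∧ e.hom ≫ V'.ι ≫ sY = U'.ι ≫ sX := by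
  set u := U.fromSpecStalkOfMem x hx
  set v := V.fromSpecStalkOfMem y hy
  have hu : u ≫ U.ι = X.fromSpecStalk x := by simp [u]
  have hv : v ≫ V.ι = Y.fromSpecStalk y := by simp [v]
  let ux : U.toScheme := ⟨x, hx⟩
  let vy : V.toScheme := ⟨y, hy⟩
  have huc : u (IsLocalRing.closedPoint _) = ux := Subtype.ext (by
    show (u ≫ U.ι) (IsLocalRing.closedPoint _) = x
    rw [hu, Scheme.fromSpecStalk_closedPoint])
  have hvc : v (IsLocalRing.closedPoint _) = vy := Subtype.ext (by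
    show (v ≫ V.ι) (IsLocalRing.closedPoint _) = y
    rw [hv, Scheme.fromSpecStalk_closedPoint])
  -- `g ∘ f = id` near `x`
  have hr1 : Set.range u ⊆ Set.range (f ⁻¹ᵁ V).ι := by
    rintro _ ⟨p, rfl⟩
    rw [Scheme.Opens.range_ι]
    show (u ≫ f) p ∈ V
    rw [hfα, ← hv]
    exact (v (Spec.map α.hom p)).2
  let u1 := IsOpenImmersion.lift (f ⁻¹ᵁ V).ι u hr1
  have hu1 : u1 ≫ (f ⁻¹ᵁ V).ι = u := IsOpenImmersion.lift_fac _ _ _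
  have hu1f : u1 ≫ f ∣_ V = Spec.map α.hom ≫ v := by
    rw [← cancel_mono V.ι, Category.assoc, morphismRestrict_ι, reassoc_of% hu1, hfα, Category.assoc, hv]
  have hfx : ux ∈ f ⁻¹ᵁ V := by
    show (f ux : Y) ∈ V
    rw [← huc]
    show (u ≫ f) _ ∈ V
    rw [hfα, ← hv]
    exact (v _).2
  obtain ⟨O₁, hxO₁, hO₁⟩ := spread_out_unique_sub sX ((f ⁻¹ᵁ V).ι ≫ U.ι) (X := X)
    (⟨ux, hfx⟩ : (f ⁻¹ᵁ V).toScheme) (x := x) rfl u1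
    (by rw [reassoc_of% hu1, hu]) ((f ∣_ V) ≫ g) ((f ⁻¹ᵁ V).ι ≫ U.ι)
    (by rw [Category.assoc, hg, morphismRestrict_ι_assoc, hf, Category.assoc])
    (by rw [← Category.assoc, hu1f, Category.assoc, hgα, ← Spec.map_comp_assoc, α.inv_hom_id,
      Spec.map_id, Category.id_comp, reassoc_of% hu1, hu])
  -- `f ∘ g = id` near `y`
  have hr2 : Set.range v ⊆ Set.range (g ⁻¹ᵁ U).ι := by
    rintro _ ⟨p, rfl⟩
    rw [Scheme.Opens.range_ι]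
    show (v ≫ g) p ∈ U
    rw [hgα, ← hu]
    exact (u (Spec.map α.inv p)).2
  let v1 := IsOpenImmersion.lift (g ⁻¹ᵁ U).ι v hr2
  have hv1 : v1 ≫ (g ⁻¹ᵁ U).ι = v := IsOpenImmersion.lift_fac _ _ _
  have hv1g : v1 ≫ g ∣_ U = Spec.map α.inv ≫ u := by
    rw [← cancel_mono U.ι, Category.assoc, morphismRestrict_ι, reassoc_of% hv1, hgα, Category.assoc, hu]
  have hgy : vy ∈ g ⁻¹ᵁ U := by
    show (g vy : X) ∈ U
    rw [← hvc]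
    show (v ≫ g) _ ∈ U
    rw [hgα, ← hu]
    exact (u _).2
  obtain ⟨O₂, hyO₂, hO₂⟩ := spread_out_unique_sub sY ((g ⁻¹ᵁ U).ι ≫ V.ι) (X := Y)
    (⟨vy, hgy⟩ : (g ⁻¹ᵁ U).toScheme) (x := y) rfl v1
    (by rw [reassoc_of% hv1, hv]) ((g ∣_ U) ≫ f) ((g ⁻¹ᵁ U).ι ≫ V.ι)
    (by rw [Category.assoc, hf, morphismRestrict_ι_assoc, hg, Category.assoc])
    (by rw [← Category.assoc, hv1g, Category.assoc, hfα, ← Spec.map_comp_assoc, α.hom_inv_id,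
      Spec.map_id, Category.id_comp, reassoc_of% hv1, hv])
  -- the neighbourhoods
  let U₂ : X.Opens := ((f ⁻¹ᵁ V).ι ≫ U.ι) ''ᵁ O₁
  let V₂ : Y.Opens := ((g ⁻¹ᵁ U).ι ≫ V.ι) ''ᵁ O₂
  have hU₂U : U₂ ≤ U := by rintro _ ⟨p, -, rfl⟩; exact p.1.2
  have hV₂V : V₂ ≤ V := by rintro _ ⟨p, -, rfl⟩; exact p.1.2
  have hgf : ∀ p : U.toScheme, p.1 ∈ U₂ → ∃ h : f p ∈ V, g ⟨f p, h⟩ = p.1 := by
    rintro p ⟨q, hq, hqp⟩
    obtain rfl : q.1 = p := Subtype.ext hqp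
    refine ⟨q.2, ?_⟩
    have e : (f ∣_ V) q = ⟨f q.1, q.2⟩ := Subtype.ext
      (congrArg (fun φ : (f ⁻¹ᵁ V).toScheme ⟶ Y => φ q) (morphismRestrict_ι f V))
    rw [← e]
    exact congrArg (fun φ : O₁.toScheme ⟶ X => φ ⟨q, hq⟩) hO₁
  have hfg : ∀ p : V.toScheme, p.1 ∈ V₂ → ∃ h : g p ∈ U, f ⟨g p, h⟩ = p.1 := by
    rintro p ⟨q, hq, hqp⟩
    obtain rfl : q.1 = p := Subtype.ext hqp
    refine ⟨q.2, ?_⟩
    have e : (g ∣_ U) q = ⟨g q.1, q.2⟩ := Subtype.ext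
      (congrArg (fun φ : (g ⁻¹ᵁ U).toScheme ⟶ X => φ q) (morphismRestrict_ι g U))
    rw [← e]
    exact congrArg (fun φ : O₂.toScheme ⟶ Y => φ ⟨q, hq⟩) hO₂
  let U₃ : X.Opens := U.ι ''ᵁ (U.ι ⁻¹ᵁ U₂ ⊓ f ⁻¹ᵁ V₂)
  let V₃ : Y.Opens := V.ι ''ᵁ (V.ι ⁻¹ᵁ V₂ ⊓ g ⁻¹ᵁ U₂)
  have hU₃U : U₃ ≤ U := by rintro _ ⟨p, -, rfl⟩; exact p.2
  have hV₃V : V₃ ≤ V := by rintro _ ⟨p, -, rfl⟩; exact p.2
  have hxU₂ : x ∈ U₂ := ⟨_, hxO₁, rfl⟩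
  have hyV₂ : y ∈ V₂ := ⟨_, hyO₂, rfl⟩
  have hfxy : f ux = y := by
    rw [← huc]
    show (u ≫ f) _ = y
    rw [hfα]
    show Y.fromSpecStalk y (Spec.map α.hom _) = y
    rw [show Spec.map α.hom (IsLocalRing.closedPoint _) = IsLocalRing.closedPoint _ from
      IsLocalRing.comap_closedPoint α.hom.hom, Scheme.fromSpecStalk_closedPoint]
  have hgyx : g vy = x := by
    rw [← hvc]
    show (v ≫ g) _ = x
    rw [hgα]
    show X.fromSpecStalk x (Spec.map α.inv _) = x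
    rw [show Spec.map α.inv (IsLocalRing.closedPoint _) = IsLocalRing.closedPoint _ from
      IsLocalRing.comap_closedPoint α.inv.hom, Scheme.fromSpecStalk_closedPoint]
  have hxU₃ : x ∈ U₃ := ⟨ux, ⟨hxU₂, by show f ux ∈ V₂; rw [hfxy]; exact hyV₂⟩, rfl⟩
  have hyV₃ : y ∈ V₃ := ⟨vy, ⟨hyV₂, by show g vy ∈ U₂; rw [hgyx]; exact hxU₂⟩, rfl⟩
  have r1 : Set.range (X.homOfLE hU₃U ≫ f) ⊆ Set.range V₃.ι := by
    rintro _ ⟨p, rfl⟩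
    rw [Scheme.Opens.range_ι]
    obtain ⟨q, ⟨hq1, hq2⟩, hqp⟩ := p.2
    have e0 : X.homOfLE hU₃U p = q := Subtype.ext (by
      show (X.homOfLE hU₃U ≫ U.ι) p = q.1
      rw [Scheme.homOfLE_ι]; exact hqp.symm)
    show f (X.homOfLE hU₃U p) ∈ V₃
    rw [e0]
    obtain ⟨h, hh⟩ := hgf q hq1
    exact ⟨⟨f q, h⟩, ⟨hq2, by show g ⟨f q, h⟩ ∈ U₂; rw [hh]; exact hq1⟩, rfl⟩
  have r2 : Set.range (Y.homOfLE hV₃V ≫ g) ⊆ Set.range U₃.ι := by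
    rintro _ ⟨p, rfl⟩
    rw [Scheme.Opens.range_ι]
    obtain ⟨q, ⟨hq1, hq2⟩, hqp⟩ := p.2
    have e0 : Y.homOfLE hV₃V p = q := Subtype.ext (by
      show (Y.homOfLE hV₃V ≫ V.ι) p = q.1
      rw [Scheme.homOfLE_ι]; exact hqp.symm)
    show g (Y.homOfLE hV₃V p) ∈ U₃
    rw [e0]
    obtain ⟨h, hh⟩ := hfg q hq1
    exact ⟨⟨g q, h⟩, ⟨hq2, by show f ⟨g q, h⟩ ∈ V₂; rw [hh]; exact hq1⟩, rfl⟩
  let a := IsOpenImmersion.lift V₃.ι _ r1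
  let b := IsOpenImmersion.lift U₃.ι _ r2
  have ha : a ≫ V₃.ι = X.homOfLE hU₃U ≫ f := IsOpenImmersion.lift_fac _ _ _
  have hb : b ≫ U₃.ι = Y.homOfLE hV₃V ≫ g := IsOpenImmersion.lift_fac _ _ _
  have hab : a ≫ b = 𝟙 _ := by
    have hU₃₂ : U₃ ≤ U₂ := by rintro _ ⟨p, hp, rfl⟩; exact hp.1
    have hr : Set.range U₃.ι ⊆ Set.range (O₁.ι ≫ (f ⁻¹ᵁ V).ι ≫ U.ι) := by
      rintro _ ⟨p, rfl⟩
      obtain ⟨q, hq, hqp⟩ := hU₃₂ p.2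
      exact ⟨⟨q, hq⟩, hqp⟩
    let t := IsOpenImmersion.lift (O₁.ι ≫ (f ⁻¹ᵁ V).ι ≫ U.ι) U₃.ι hr
    have ht : t ≫ O₁.ι ≫ (f ⁻¹ᵁ V).ι ≫ U.ι = U₃.ι := IsOpenImmersion.lift_fac _ _ _
    have ht' : t ≫ O₁.ι ≫ (f ⁻¹ᵁ V).ι = X.homOfLE hU₃U := by
      rw [← cancel_mono U.ι, Scheme.homOfLE_ι]; simpa using ht
    have ea : a ≫ Y.homOfLE hV₃V = t ≫ O₁.ι ≫ (f ∣_ V) := by
      rw [← cancel_mono V.ι, Category.assoc, Scheme.homOfLE_ι, ha]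
      simp only [Category.assoc, morphismRestrict_ι]
      rw [← reassoc_of% ht']
    rw [← cancel_mono U₃.ι, Category.assoc, hb, reassoc_of% ea, hO₁, Category.id_comp, ht]
  have hba : b ≫ a = 𝟙 _ := by
    have hV₃₂ : V₃ ≤ V₂ := by rintro _ ⟨p, hp, rfl⟩; exact hp.1
    have hr : Set.range V₃.ι ⊆ Set.range (O₂.ι ≫ (g ⁻¹ᵁ U).ι ≫ V.ι) := by
      rintro _ ⟨p, rfl⟩
      obtain ⟨q, hq, hqp⟩ := hV₃₂ p.2
      exact ⟨⟨q, hq⟩, hqp⟩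
    let t := IsOpenImmersion.lift (O₂.ι ≫ (g ⁻¹ᵁ U).ι ≫ V.ι) V₃.ι hr
    have ht : t ≫ O₂.ι ≫ (g ⁻¹ᵁ U).ι ≫ V.ι = V₃.ι := IsOpenImmersion.lift_fac _ _ _
    have ht' : t ≫ O₂.ι ≫ (g ⁻¹ᵁ U).ι = Y.homOfLE hV₃V := by
      rw [← cancel_mono V.ι, Scheme.homOfLE_ι]; simpa using ht
    have eb : b ≫ X.homOfLE hU₃U = t ≫ O₂.ι ≫ (g ∣_ U) := by
      rw [← cancel_mono U.ι, Category.assoc, Scheme.homOfLE_ι, hb]
      simp only [Category.assoc, morphismRestrict_ι]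
      rw [← reassoc_of% ht']
    rw [← cancel_mono V₃.ι, Category.assoc, ha, reassoc_of% eb, hO₂, Category.id_comp, ht]
  refine ⟨U₃, V₃, hxU₃, hyV₃, hU₃U, hV₃V, ⟨a, b, hab, hba⟩, ha, ?_⟩
  show a ≫ V₃.ι ≫ sY = _
  rw [reassoc_of% ha, hf, Scheme.homOfLE_ι_assoc]

end Groth.Agent.SpreadOutFP
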