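import Mathlib.AlgebraicGeometry.SpreadingOut
import Mathlib.AlgebraicGeometry.Morphisms.FinitePresentation
import Mathlib.AlgebraicGeometry.Morphisms.FiniteType
import Mathlib.RingTheory.FinitePresentation

/-!
Spreading out of morphisms from stalks without germ-injectivity:
existence for targets locally of finite presentation, uniqueness for targets locally of finite type.
-/

universe u

open AlgebraicGeometry CategoryTheory TopologicalSpace Opposite

set_option backward.isDefEq.respectTransparency.types false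

namespace Groth.Agent.SpreadOutFP

variable {X Y S : Scheme.{u}} {R A : CommRingCat.{u}}

theorem exists_lift_of_fp {U : X.Opens} {x : X} (hxU : x ∈ U)
    (φ : A ⟶ X.presheaf.stalk x) (φRA : R ⟶ A) (φRX : R ⟶ Γ(X, U))
    (hφRA : φRA.hom.FinitePresentation)
    (e : φRA ≫ φ = φRX ≫ X.presheaf.germ U x hxU) :
    ∃ (V : X.Opens) (hxV : x ∈ V) (φ' : A ⟶ Γ(X, V)) (i : V ≤ U), IsAffineOpen V ∧
      φ = φ' ≫ X.presheaf.germ V x hxV ∧ φRX ≫ X.presheaf.map i.hom.op = φRA ≫ φ' := by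
  letI := φRA.hom.toAlgebra
  obtain ⟨n, f, hf, s, hs⟩ := (hφRA : Algebra.FinitePresentation R A).out
  choose W hxW c hc using fun i : Fin n => X.presheaf.exists_germ_eq (φ (f (MvPolynomial.X i)))
  let V₀ : X.Opens := (Finset.univ.inf W) ⊓ U
  have hxV₀ : x ∈ V₀ := by
    refine ⟨?_, hxU⟩
    rw [SetLike.mem_coe, ← SetLike.mem_coe, Opens.coe_finset_inf]
    simpa using hxW
  let ev : MvPolynomial (Fin n) R →+* Γ(X, V₀) :=
    MvPolynomial.eval₂Hom (φRX ≫ X.presheaf.map (homOfLE (inf_le_right : V₀ ≤ U)).op).hom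
      (fun i => X.presheaf.map (homOfLE (inf_le_left.trans (Finset.inf_le (Finset.mem_univ i)) : V₀ ≤ W i)).op (c i))
  have hev : (X.presheaf.germ V₀ x hxV₀).hom.comp ev = φ.hom.comp f.toRingHom := by
    refine MvPolynomial.ringHom_ext (fun r => ?_) (fun i => ?_)
    · simp only [RingHom.comp_apply, ev, MvPolynomial.eval₂Hom_C]
      have h1 : f.toRingHom (MvPolynomial.C r) = φRA r := f.commutes r
      rw [h1]
      refine (X.presheaf.germ_res_apply _ _ _ _).trans ?_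
      exact (DFunLike.congr_fun (congrArg CommRingCat.Hom.hom e) r).symm
    · simp only [RingHom.comp_apply, ev, MvPolynomial.eval₂Hom_X']
      exact (X.presheaf.germ_res_apply _ _ _ _).trans (hc i)
  have hker : ∀ g : s, ∃ (O : X.Opens) (_ : x ∈ O) (i : O ⟶ V₀), X.presheaf.map i.op (ev g.1) = 0 := by
    intro g
    have hg : f g.1 = 0 := (show g.1 ∈ RingHom.ker f.toRingHom from hs ▸ Ideal.subset_span g.2)
    have h0 : X.presheaf.germ V₀ x hxV₀ (ev g.1) = X.presheaf.germ V₀ x hxV₀ 0 := by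
      rw [map_zero]
      refine (DFunLike.congr_fun hev g.1).trans ?_
      show φ (f g.1) = 0
      rw [hg, map_zero]
    obtain ⟨O, hxO, i₁, i₂, hO⟩ := X.presheaf.germ_eq x hxV₀ hxV₀ _ _ h0
    exact ⟨O, hxO, i₁, hO.trans (map_zero _)⟩
  choose O hxO iO hO using hker
  have hxall : x ∈ ((Finset.univ.inf O ⊓ V₀ : X.Opens) : Set X) := by
    refine ⟨?_, hxV₀⟩
    rw [Opens.coe_finset_inf]
    simpa using hxO
  obtain ⟨_, ⟨V, hV, rfl⟩, hxV, hVle⟩ :=
    X.isBasis_affineOpens.exists_subset_of_mem_open hxall (Finset.univ.inf O ⊓ V₀).2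
  have hVV₀ : V ≤ V₀ := fun y hy => (hVle hy).2
  let ev' : MvPolynomial (Fin n) R →+* Γ(X, V) := (X.presheaf.map (homOfLE hVV₀).op).hom.comp ev
  have hle : RingHom.ker f.toRingHom ≤ RingHom.ker ev' := by
    rw [← hs, Ideal.span_le]
    intro g hg
    have hVO : V ≤ O ⟨g, hg⟩ := fun y hy =>
      (Finset.inf_le (Finset.mem_univ (⟨g, hg⟩ : s)) : Finset.univ.inf O ≤ O ⟨g, hg⟩) (hVle hy).1
    show X.presheaf.map (homOfLE hVV₀).op (ev g) = 0
    rw [show (homOfLE hVV₀).op = (iO ⟨g, hg⟩).op ≫ (homOfLE hVO).op from Subsingleton.elim _ _,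
      Functor.map_comp, CommRingCat.comp_apply, hO, map_zero]
  let φ' : A →+* Γ(X, V) :=
    RingHom.liftOfRightInverse f.toRingHom (Function.surjInv hf) (Function.rightInverse_surjInv hf) ⟨ev', hle⟩
  have hφ' : φ'.comp f.toRingHom = ev' := RingHom.liftOfRightInverse_comp _ _ _ _
  refine ⟨V, hxV, CommRingCat.ofHom φ', hVV₀.trans inf_le_right, hV, ?_, ?_⟩
  · ext a
    obtain ⟨p, rfl⟩ := hf a
    show φ (f p) = X.presheaf.germ V x hxV (φ'.comp f.toRingHom p)
    rw [hφ']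
    exact ((X.presheaf.germ_res_apply _ _ _ _).trans (DFunLike.congr_fun hev p)).symm
  · ext r
    have h1 : f.toRingHom (MvPolynomial.C r) = φRA r := f.commutes r
    show X.presheaf.map _ (φRX r) = φ' (φRA r)
    rw [← h1, ← RingHom.comp_apply φ', hφ']
    simp only [ev', ev, RingHom.comp_apply, MvPolynomial.eval₂Hom_C]
    simp only [CommRingCat.hom_comp, RingHom.comp_apply]
    rw [← CommRingCat.comp_apply (X.presheaf.map _) (X.presheaf.map _), ← Functor.map_comp]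
    rfl

theorem spread_out (sX : X ⟶ S) (sY : Y ⟶ S) [LocallyOfFinitePresentation sY] {x : X} {y : Y}
    (e : sX x = sY y) (φ : Y.presheaf.stalk y ⟶ X.presheaf.stalk x)
    (h : sY.stalkMap y ≫ φ =
      S.presheaf.stalkSpecializes (Inseparable.of_eq e).specializes ≫ sX.stalkMap x) :
    ∃ (U : X.Opens) (hxU : x ∈ U) (f : U.toScheme ⟶ Y),
      Spec.map φ ≫ Y.fromSpecStalk y = U.fromSpecStalkOfMem x hxU ≫ f ∧
      f ≫ sY = U.ι ≫ sX := by
  obtain ⟨_, ⟨U, hU, rfl⟩, hxU, -⟩ :=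
    S.isBasis_affineOpens.exists_subset_of_mem_open (Set.mem_univ (sX x)) isOpen_univ
  have hyU : sY y ∈ U := e ▸ hxU
  obtain ⟨_, ⟨V : Y.Opens, hV, rfl⟩, hyV, iVU⟩ :=
    Y.isBasis_affineOpens.exists_subset_of_mem_open hyU (sY ⁻¹ᵁ U).2
  have : sY.appLE U V iVU ≫ Y.presheaf.germ V y hyV ≫ φ =
      sX.app U ≫ X.presheaf.germ (sX ⁻¹ᵁ U) x hxU := by
    rw [Scheme.Hom.appLE, Category.assoc, Y.presheaf.germ_res_assoc,
      ← Scheme.Hom.germ_stalkMap_assoc, h]
    simp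
  obtain ⟨W, hxW, φ', i, hW, h₁, h₂⟩ :=
    exists_lift_of_fp (R := Γ(S, U)) (A := Γ(Y, V)) (U := sX ⁻¹ᵁ U) (x := x) hxU
    (Y.presheaf.germ _ y hyV ≫ φ) (sY.appLE U V iVU) (sX.app U)
    (HasRingHomProperty.appLE @LocallyOfFinitePresentation.{u} sY inferInstance ⟨U, hU⟩ ⟨V, hV⟩ _) this
  refine ⟨W, hxW, W.toSpecΓ ≫ Spec.map φ' ≫ hV.fromSpec, ?_, ?_⟩
  · rw [W.fromSpecStalkOfMem_toSpecΓ_assoc x hxW, ← Spec.map_comp_assoc, ← h₁,
      Spec.map_comp, Category.assoc, ← IsAffineOpen.fromSpecStalk,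
      IsAffineOpen.fromSpecStalk_eq_fromSpecStalk]
  · simp only [Category.assoc]
    rw [← IsAffineOpen.SpecMap_appLE_fromSpec sY hU hV iVU, ← Spec.map_comp_assoc, ← h₂,
      ← Scheme.Hom.appLE, ← hW.isoSpec_hom, IsAffineOpen.SpecMap_appLE_fromSpec sX hU hW i,
      ← Iso.eq_inv_comp, IsAffineOpen.isoSpec_inv_ι_assoc]

/-- Every `S`-morphism `Spec 𝒪_{X,x} ⟶ Y` extends to a neighbourhood when `Y` is lfp over `S`. -/
theorem spread_out' (sX : X ⟶ S) (sY : Y ⟶ S) [LocallyOfFinitePresentation sY] {x : X}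
    (φ : Spec (X.presheaf.stalk x) ⟶ Y)
    (h : φ ≫ sY = X.fromSpecStalk x ≫ sX) :
    ∃ (U : X.Opens) (hxU : x ∈ U) (f : U.toScheme ⟶ Y),
      φ = U.fromSpecStalkOfMem x hxU ≫ f ∧ f ≫ sY = U.ι ≫ sX := by
  have := spread_out sX sY ?_ (Scheme.stalkClosedPointTo φ) ?_
  · simpa only [Scheme.Spec_stalkClosedPointTo_fromSpecStalk] using this
  · rw [← Scheme.Hom.comp_apply, h, Scheme.Hom.comp_apply, Scheme.fromSpecStalk_closedPoint]
  · apply Spec.map_injective
    rw [← cancel_mono (S.fromSpecStalk _)]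
    simpa only [Spec.map_comp, Category.assoc, Scheme.SpecMap_stalkMap_fromSpecStalk,
      Scheme.Spec_stalkClosedPointTo_fromSpecStalk_assoc,
      Scheme.SpecMap_stalkSpecializes_fromSpecStalk]

/-- Two `S`-morphisms into an lft `S`-scheme which agree on a stalk agree near the point. -/
theorem spread_out_unique (sY : Y ⟶ S) [LocallyOfFiniteType sY] {x : X}
    (f g : X ⟶ Y) (hfg : f ≫ sY = g ≫ sY)
    (e : X.fromSpecStalk x ≫ f = X.fromSpecStalk x ≫ g) :
    ∃ (U : X.Opens), x ∈ U ∧ U.ι ≫ f = U.ι ≫ g := by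
  have hx : f x = g x := by simpa using congr($e (IsLocalRing.closedPoint _))
  obtain ⟨_, ⟨T, hT, rfl⟩, hyT, -⟩ :=
    S.isBasis_affineOpens.exists_subset_of_mem_open (Set.mem_univ (sY (f x))) isOpen_univ
  obtain ⟨_, ⟨V : Y.Opens, hV, rfl⟩, hxV, iVT⟩ :=
    Y.isBasis_affineOpens.exists_subset_of_mem_open hyT (sY ⁻¹ᵁ T).2
  obtain ⟨_, ⟨U : X.Opens, hU, rfl⟩, hxU, hUV⟩ :=
    X.isBasis_affineOpens.exists_subset_of_mem_open
      (show x ∈ f ⁻¹ᵁ V ⊓ g ⁻¹ᵁ V from ⟨hxV, (by show g x ∈ V; rw [← hx]; exact hxV)⟩) (f ⁻¹ᵁ V ⊓ g ⁻¹ᵁ V).2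
  have ef : U ≤ f ⁻¹ᵁ V := fun y hy => (hUV hy).1
  have eg : U ≤ g ⁻¹ᵁ V := fun y hy => (hUV hy).2
  set α := f.appLE V U ef with hα
  set β := g.appLE V U eg with hβ
  have hgerm : α ≫ X.presheaf.germ U x hxU = β ≫ X.presheaf.germ U x hxU := by
    apply Spec.map_injective
    rw [← cancel_mono hV.fromSpec, Spec.map_comp, Spec.map_comp, Category.assoc, Category.assoc,
      hα, hβ, IsAffineOpen.SpecMap_appLE_fromSpec f hV hU ef,
      IsAffineOpen.SpecMap_appLE_fromSpec g hV hU eg, ← Category.assoc, ← Category.assoc,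
      ← IsAffineOpen.fromSpecStalk, IsAffineOpen.fromSpecStalk_eq_fromSpecStalk]
    exact e
  have hbase : ∀ r, α (sY.appLE T V iVT r) = β (sY.appLE T V iVT r) := by
    have h1 : sY.appLE T V iVT ≫ α = sY.appLE T V iVT ≫ β := by
      rw [hα, hβ, Scheme.Hom.appLE_comp_appLE, Scheme.Hom.appLE_comp_appLE]
      simp only [hfg]
    exact fun r => DFunLike.congr_fun (congrArg CommRingCat.Hom.hom h1) r
  have hft := sY.finiteType_appLE hT hV iVT
  letI := (sY.appLE T V iVT).hom.toAlgebra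
  obtain ⟨s, hs⟩ := (hft : Algebra.FiniteType Γ(S, T) Γ(Y, V)).out
  have hloc : ∀ a : s, ∃ (O : X.Opens) (_ : x ∈ O) (i : O ⟶ U),
      X.presheaf.map i.op (α a.1) = X.presheaf.map i.op (β a.1) := by
    intro a
    obtain ⟨O, hxO, i₁, i₂, hO⟩ := X.presheaf.germ_eq x hxU hxU (α a.1) (β a.1)
      (DFunLike.congr_fun (congrArg CommRingCat.Hom.hom hgerm) a.1)
    exact ⟨O, hxO, i₁, by rw [hO, Subsingleton.elim i₂ i₁]⟩
  choose O hxO iO hO using hloc
  have hxall : x ∈ ((Finset.univ.inf O ⊓ U : X.Opens) : Set X) := by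
    refine ⟨?_, hxU⟩
    rw [Opens.coe_finset_inf]
    simpa using hxO
  obtain ⟨_, ⟨W : X.Opens, hW, rfl⟩, hxW, hWle⟩ :=
    X.isBasis_affineOpens.exists_subset_of_mem_open hxall (Finset.univ.inf O ⊓ U).2
  have hWU : W ≤ U := fun y hy => (hWle hy).2
  have heq : f.appLE V W (hWU.trans ef) = g.appLE V W (hWU.trans eg) := by
    rw [← Scheme.Hom.appLE_map f ef (homOfLE hWU).op, ← Scheme.Hom.appLE_map g eg (homOfLE hWU).op]
    ext a
    have ha : a ∈ Algebra.adjoin Γ(S, T) (s : Set Γ(Y, V)) := hs ▸ Algebra.mem_top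
    show X.presheaf.map (homOfLE hWU).op (α a) = X.presheaf.map (homOfLE hWU).op (β a)
    induction ha using Algebra.adjoin_induction with
    | mem z hz =>
      have hWO : W ≤ O ⟨z, hz⟩ := fun y hy =>
        (Finset.inf_le (Finset.mem_univ (⟨z, hz⟩ : s)) : Finset.univ.inf O ≤ O ⟨z, hz⟩) (hWle hy).1
      rw [show (homOfLE hWU).op = (iO ⟨z, hz⟩).op ≫ (homOfLE hWO).op from Subsingleton.elim _ _,
        Functor.map_comp, CommRingCat.comp_apply, CommRingCat.comp_apply, hO ⟨z, hz⟩]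
    | algebraMap r => rw [RingHom.algebraMap_toAlgebra, hbase]
    | add a b _ _ ha hb => rw [map_add, map_add, map_add, map_add, ha, hb]
    | mul a b _ _ ha hb => rw [map_mul, map_mul, map_mul, map_mul, ha, hb]
  refine ⟨W, hxW, ?_⟩
  have h2 : hW.fromSpec ≫ f = hW.fromSpec ≫ g := by
    rw [← IsAffineOpen.SpecMap_appLE_fromSpec f hV hW (hWU.trans ef),
      ← IsAffineOpen.SpecMap_appLE_fromSpec g hV hW (hWU.trans eg), heq]
  rw [← cancel_epi hW.isoSpec.inv, hW.isoSpec_inv_ι_assoc, hW.isoSpec_inv_ι_assoc]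
  exact h2

end Groth.Agent.SpreadOutFP
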